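import Groth.Agent.S11834
import Groth.Prelude.Def_HTop2
import Mathlib

/-!
# The Picard group of a polynomial ring over a seminormal local ring

Coquand's proof of the theorem of Traverso and Swan: a rank one idempotent matrix over `R[X]` splits as a
column times a row.
-/

set_option autoImplicit false

universe u

open Polynomial TensorProduct

namespace Groth.Agent.SeminormalPic

/-- Integrality can be tested modulo all prime ideals. -/
theorem isIntegral_of_forall_prime {R : Type u} [CommRing R] {K : Type u} [CommRing K] [Algebra R K] (x : K)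
    (h : ∀ q : Ideal K, q.IsPrime → IsIntegral R (Ideal.Quotient.mk q x)) : IsIntegral R x := by
  let S : Submonoid K :=
    { carrier := {y | ∃ P : R[X], P.Monic ∧ aeval x P = y}
      one_mem' := ⟨1, monic_one, map_one _⟩
      mul_mem' := by
        rintro _ _ ⟨P, hP, rfl⟩ ⟨Q, hQ, rfl⟩
        exact ⟨P * Q, hP.mul hQ, map_mul _ _ _⟩ }
  by_cases h0 : (0 : K) ∈ S
  · obtain ⟨P, hP, hPx⟩ := h0
    exact ⟨P, hP, by rwa [← aeval_def]⟩
  obtain ⟨q, hq, -, hdis⟩ := Ideal.exists_le_prime_disjoint (⊥ : Ideal K) S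
    (Set.disjoint_left.2 fun y hy hyS => h0 ((Ideal.mem_bot.1 hy) ▸ hyS))
  obtain ⟨P, hP, hPx⟩ := h q hq
  refine (Set.disjoint_left.1 hdis ?_ ⟨P, hP, rfl⟩).elim
  rw [← aeval_def, ← Ideal.Quotient.mkₐ_eq_mk R, aeval_algHom_apply] at hPx
  exact Ideal.Quotient.eq_zero_iff_mem.1 hPx

/-- Kronecker's theorem. -/
theorem isIntegral_coeff_mul_coeff {R : Type u} [CommRing R] {K : Type u} [CommRing K] [Algebra R K]
    (f g : K[X]) (m : R[X]) (h : f * g = m.map (algebraMap R K)) (i j : ℕ) :
    IsIntegral R (f.coeff i * g.coeff j) := by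
  refine isIntegral_of_forall_prime _ fun q hq => ?_
  let φ : K →ₐ[R] FractionRing (K ⧸ q) := IsScalarTower.toAlgHom R K (FractionRing (K ⧸ q))
  have hmem : ∀ n, ((f.map φ.toRingHom) * (g.map φ.toRingHom)).coeff n ∈
      (algebraMap R (FractionRing (K ⧸ q))).range := fun n => by
    rw [← Polynomial.map_mul, h, Polynomial.map_map, coeff_map]
    exact ⟨m.coeff n, (φ.commutes _).symm⟩
  have := S11834.result (FractionRing (K ⧸ q)) (algebraMap R (FractionRing (K ⧸ q))).range
    (f.map φ.toRingHom) (g.map φ.toRingHom) hmem i j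
  obtain ⟨P, hP, hPx⟩ := this
  obtain ⟨P', hP'map, -, hP'⟩ := lifts_and_degree_eq_and_monic
    (show P ∈ lifts (algebraMap R (FractionRing (K ⧸ q))).rangeRestrict from
      (lifts_iff_coeff_lifts P).2 fun k => by
        obtain ⟨r, hr⟩ := (P.coeff k).2
        exact ⟨r, Subtype.ext hr⟩) hP
  have h1 : IsIntegral R (φ (f.coeff i * g.coeff j)) := by
    refine ⟨P', hP', ?_⟩
    rw [← hP'map, eval₂_map, coeff_map, coeff_map, ← map_mul] at hPx
    exact hPx
  have e : φ (f.coeff i * g.coeff j) = IsScalarTower.toAlgHom R (K ⧸ q) (FractionRing (K ⧸ q))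
      (Ideal.Quotient.mk q (f.coeff i * g.coeff j)) :=
    IsScalarTower.algebraMap_apply K (K ⧸ q) (FractionRing (K ⧸ q)) _
  rw [e] at h1
  exact (isIntegral_algHom_iff _ (IsFractionRing.injective (K ⧸ q) (FractionRing (K ⧸ q)))).1 h1

variable {n : ℕ}

/-- A normalised splitting of a rank one idempotent matrix. -/
structure Split {R : Type u} [CommRing R] (M : Fin n → Fin n → R[X]) (i₀ : Fin n) {A : Type u} [CommRing A]
    (φ : R →+* A) (F G : Fin n → A[X]) : Prop where
  eq : ∀ i j, (M i j).map φ = F i * G j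
  one : ∑ i, F i * G i = 1
  normal : (F i₀).coeff 0 = 1

theorem Split.map {R : Type u} [CommRing R] {M : Fin n → Fin n → R[X]} {i₀ : Fin n} {A B : Type u} [CommRing A]
    [CommRing B] {φ : R →+* A} {F G : Fin n → A[X]} (h : Split M i₀ φ F G) (ψ : A →+* B) :
    Split M i₀ (ψ.comp φ) (fun i => (F i).map ψ) (fun i => (G i).map ψ) where
  eq i j := by rw [← Polynomial.map_map, h.eq, Polynomial.map_mul]
  one := by
    have := congrArg (Polynomial.map ψ) h.one
    rwa [Polynomial.map_sum, Polynomial.map_one, Finset.sum_congr rfl fun i _ => Polynomial.map_mul ψ] at this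
  normal := by rw [coeff_map, h.normal, map_one]

theorem Split.unique {R : Type u} [CommRing R] {M : Fin n → Fin n → R[X]} {i₀ : Fin n} {A : Type u} [CommRing A]
    [IsReduced A] {φ : R →+* A} {F G F' G' : Fin n → A[X]} (h : Split M i₀ φ F G) (h' : Split M i₀ φ F' G') :
    F = F' ∧ G = G' := by
  have hM : ∀ i j, F i * G j = F' i * G' j := fun i j => (h.eq i j).symm.trans (h'.eq i j)
  obtain ⟨u, hu⟩ : ∃ u, u = ∑ j, G j * F' j := ⟨_, rfl⟩
  obtain ⟨v, hv⟩ : ∃ v, v = ∑ j, G' j * F j := ⟨_, rfl⟩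
  have hF' : ∀ i, F' i = F i * u := fun i => by
    rw [hu, Finset.mul_sum]
    calc F' i = F' i * ∑ j, F' j * G' j := by rw [h'.one, mul_one]
      _ = _ := by
        rw [Finset.mul_sum]
        exact Finset.sum_congr rfl fun j _ => by linear_combination (-(F' j)) * hM i j
  have hF : ∀ i, F i = F' i * v := fun i => by
    rw [hv, Finset.mul_sum]
    calc F i = F i * ∑ j, F j * G j := by rw [h.one, mul_one]
      _ = _ := by
        rw [Finset.mul_sum]
        exact Finset.sum_congr rfl fun j _ => by linear_combination (F j) * hM i j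
  have huv : u * v = 1 := by
    calc u * v = (∑ i, F i * G i) * (u * v) := by rw [h.one, one_mul]
      _ = ∑ i, (F' i * v) * G i := by
        rw [Finset.sum_mul]
        exact Finset.sum_congr rfl fun i _ => by rw [hF']; ring
      _ = 1 := by
        rw [← h.one]
        exact Finset.sum_congr rfl fun i _ => by rw [← hF]
  have hu1 : u = 1 := by
    obtain ⟨-, hnil⟩ := Polynomial.isUnit_iff_coeff_isUnit_isNilpotent.1 (IsUnit.of_mul_eq_one _ huv)
    have h0 : u.coeff 0 = 1 := by
      have := congrArg (fun p => p.coeff 0) (hF' i₀)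
      simpa [mul_coeff_zero, h.normal, h'.normal] using this.symm
    ext k
    rcases k with _ | k
    · rw [h0, coeff_one_zero]
    · rw [(hnil _ k.succ_ne_zero).eq_zero, coeff_one, if_neg k.succ_ne_zero]
  have hFF : F = F' := funext fun i => by rw [hF', hu1, mul_one]
  refine ⟨hFF, funext fun j => ?_⟩
  calc G j = ∑ i, G i * (F' i * G j) := by
        rw [← hFF]
        conv_lhs => rw [← one_mul (G j), ← h.one, Finset.sum_mul]
        exact Finset.sum_congr rfl fun i _ => by ring
    _ = ∑ i, G i * (F' i * G' j) := Finset.sum_congr rfl fun i _ => by rw [← hM, hFF]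
    _ = G' j := by
        conv_rhs => rw [← one_mul (G' j), ← h.one, Finset.sum_mul]
        exact Finset.sum_congr rfl fun i _ => by rw [hFF]; ring

section Matrix

variable {R : Type u} [CommRing R] {P : Type u} [AddCommGroup P] [Module R[X] P] [Module.Invertible R[X] P]

/-- The symmetry of an invertible module. -/
theorem dual_smul_comm (g : Module.Dual R[X] P) (x y : P) : g x • y = g y • x := by
  have := congrArg ((TensorProduct.lid R[X] P).toLinearMap ∘ₗ g.rTensor P)
    (Module.Invertible.tmul_comm (R := R[X]) (M := P) (m₁ := x) (m₂ := y))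
  simpa using this

variable (P) in
theorem exists_coordinates : ∃ (n : ℕ) (g : Fin n → Module.Dual R[X] P) (m : Fin n → P),
    ∑ i, g i (m i) = 1 := by
  obtain ⟨s, hs⟩ := ((Module.Invertible.linearEquiv R[X] P).symm 1).exists_finset
  have hsum : (1 : R[X]) = ∑ i ∈ s, i.1 i.2 := by
    simpa [LinearEquiv.symm_apply_eq, Module.Invertible.linearEquiv] using hs
  refine ⟨s.card, fun i => (s.equivFin.symm i).1.1, fun i => (s.equivFin.symm i).1.2, ?_⟩
  rw [hsum, ← Finset.sum_coe_sort s]
  exact s.equivFin.symm.sum_comp (fun x : s => x.1.1 x.1.2)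

/-- The splitting over a field. -/
theorem exists_split_field {g : Fin n → Module.Dual R[X] P} {m : Fin n → P} (h1 : ∑ i, g i (m i) = 1)
    {i₀ : Fin n} (hi₀ : IsUnit ((g i₀ (m i₀)).coeff 0)) {k : Type u} [Field k] (φ : R →+* k) :
    ∃ F G : Fin n → k[X], Split (fun i j => g i (m j)) i₀ φ F G := by
  letI : Algebra R[X] k[X] := (mapRingHom φ).toAlgebra
  obtain ⟨e⟩ := (Module.Invertible.free_iff_linearEquiv (R := k[X]) (M := k[X] ⊗[R[X]] P)).1 inferInstance
  have heq : ∀ i j, (g i (m j)).map φ =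
      (g i).baseChange k[X] (e.symm 1) * e (1 ⊗ₜ m j) := by
    intro i j
    have h2 : (1 : k[X]) ⊗ₜ[R[X]] m j = e (1 ⊗ₜ m j) • e.symm 1 := by
      rw [← map_smul, smul_eq_mul, mul_one, e.symm_apply_apply]
    have h3 := congrArg ((g i).baseChange k[X]) h2
    rw [map_smul, Module.Dual.baseChange_apply_tmul, Algebra.smul_def, mul_one, smul_eq_mul] at h3
    exact h3.trans (mul_comm _ _)
  obtain ⟨F₀, hF₀⟩ : ∃ F₀ : Fin n → k[X], ∀ i, F₀ i = (g i).baseChange k[X] (e.symm 1) := ⟨_, fun _ => rfl⟩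
  obtain ⟨G₀, hG₀⟩ : ∃ G₀ : Fin n → k[X], ∀ j, G₀ j = e (1 ⊗ₜ m j) := ⟨_, fun _ => rfl⟩
  have hM : ∀ i j, (g i (m j)).map φ = F₀ i * G₀ j := fun i j => by rw [hF₀, hG₀]; exact heq i j
  have hc : (F₀ i₀).coeff 0 ≠ 0 := fun h => by
    have := congrArg (fun p => p.coeff 0) (hM i₀ i₀)
    simp only [coeff_map, mul_coeff_zero, h, zero_mul] at this
    exact (hi₀.map φ).ne_zero this
  refine ⟨fun i => C ((F₀ i₀).coeff 0)⁻¹ * F₀ i, fun j => C ((F₀ i₀).coeff 0) * G₀ j, ?_, ?_, ?_⟩
  · intro i j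
    rw [hM]
    have : C ((F₀ i₀).coeff 0)⁻¹ * C ((F₀ i₀).coeff 0) = (1 : k[X]) := by
      rw [← map_mul, inv_mul_cancel₀ hc, map_one]
    linear_combination -(F₀ i * G₀ j) * this
  · have hone := congrArg (Polynomial.map φ) h1
    rw [Polynomial.map_sum, Polynomial.map_one] at hone
    rw [← hone]
    refine Finset.sum_congr rfl fun i _ => ?_
    rw [hM]
    have : C ((F₀ i₀).coeff 0)⁻¹ * C ((F₀ i₀).coeff 0) = (1 : k[X]) := by
      rw [← map_mul, inv_mul_cancel₀ hc, map_one]
    linear_combination (F₀ i * G₀ i) * this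
  · rw [coeff_C_mul, inv_mul_cancel₀ hc]

/-- A splitting over the ring itself trivialises the module. -/
theorem free_of_split {g : Fin n → Module.Dual R[X] P} {m : Fin n → P} (h1 : ∑ i, g i (m i) = 1)
    {F G : Fin n → R[X]} (hM : ∀ i j, g i (m j) = F i * G j) : Module.Free R[X] P := by
  have hx : ∀ x : P, x = ∑ i, g i x • m i := fun x => by
    rw [Finset.sum_congr rfl fun i _ => dual_smul_comm (g i) x (m i), ← Finset.sum_smul, h1, one_smul]
  obtain ⟨y, hy⟩ : ∃ y, y = ∑ j, F j • m j := ⟨_, rfl⟩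
  have hgy : ∀ i, g i y = F i := fun i => by
    rw [hy, map_sum]
    calc ∑ j, g i (F j • m j) = F i * ∑ j, g j (m j) := by
          rw [Finset.mul_sum]
          exact Finset.sum_congr rfl fun j _ => by rw [map_smul, smul_eq_mul, hM, hM]; ring
      _ = _ := by rw [h1, mul_one]
  have hm : ∀ j, m j = G j • y := fun j => by
    rw [hx (m j), hx (G j • y)]
    exact Finset.sum_congr rfl fun i _ => by rw [map_smul, hgy, hM, smul_eq_mul, mul_comm]
  have hsurj : Function.Surjective (LinearMap.toSpanSingleton R[X] P y) := fun x =>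
    ⟨∑ i, g i x * G i, by
      rw [LinearMap.toSpanSingleton_apply, Finset.sum_smul]
      conv_rhs => rw [hx x]
      exact Finset.sum_congr rfl fun i _ => by rw [hm, smul_smul]⟩
  exact Module.Free.of_equiv (LinearEquiv.ofBijective _ (Module.Invertible.bijective_of_surjective hsurj))

end Matrix

/-- Coefficientwise gluing of polynomials of bounded degree in a product. -/
theorem exists_pi_polynomial {ι : Type u} (k : ι → Type u) [∀ p, CommRing (k p)] (f : ∀ p, (k p)[X]) (N : ℕ)
    (hN : ∀ p, (f p).natDegree ≤ N) : ∃ F : (∀ p, k p)[X], ∀ p, F.map (Pi.evalRingHom k p) = f p := by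
  refine ⟨∑ d ∈ Finset.range (N + 1), monomial d (fun p => (f p).coeff d), fun p => ?_⟩
  rw [Polynomial.map_sum]
  conv_rhs => rw [(f p).as_sum_range' (N + 1) (Nat.lt_succ_of_le (hN p))]
  exact Finset.sum_congr rfl fun d _ => by rw [map_monomial]; rfl

theorem pi_polynomial_ext {ι : Type u} {k : ι → Type u} [∀ p, CommRing (k p)] {a b : (∀ p, k p)[X]}
    (h : ∀ p, a.map (Pi.evalRingHom k p) = b.map (Pi.evalRingHom k p)) : a = b := by
  ext d p
  simpa [coeff_map] using congrArg (fun q => q.coeff d) (h p)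

section Descent

variable {R : Type u} [CommRing R]

/-- In a reduced extension, a seminormal ring contains each element whose square and cube it contains. -/
theorem mem_range_of_sq_of_cube (hR : HTop.IsSeminormalRing R) {K : Type u} [CommRing K] [IsReduced K] [Algebra R K]
    (hinj : Function.Injective (algebraMap R K)) (s : K) (h2 : s ^ 2 ∈ Set.range (algebraMap R K))
    (h3 : s ^ 3 ∈ Set.range (algebraMap R K)) : s ∈ Set.range (algebraMap R K) := by
  obtain ⟨x, hx⟩ := h2
  obtain ⟨y, hy⟩ := h3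
  obtain ⟨a, ⟨ha2, ha3⟩, -⟩ := hR x y (hinj (by rw [map_pow, map_pow, hx, hy]; ring))
  refine ⟨a, sub_eq_zero.1 (IsReduced.eq_zero _ ⟨3, ?_⟩)⟩
  have e2 : algebraMap R K a ^ 2 = s ^ 2 := by rw [← map_pow, ← ha2, hx]
  have e3 : algebraMap R K a ^ 3 = s ^ 3 := by rw [← map_pow, ← ha3, hy]
  linear_combination 4 * e3 - (3 * s + 3 * algebraMap R K a) * e2

theorem mem_range_of_forall_pow (hR : HTop.IsSeminormalRing R) {K : Type u} [CommRing K] [IsReduced K] [Algebra R K]
    (hinj : Function.Injective (algebraMap R K)) (s : K) (n : ℕ)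
    (h : ∀ m, n ≤ m → s ^ m ∈ Set.range (algebraMap R K)) : ∀ m, 1 ≤ m → s ^ m ∈ Set.range (algebraMap R K) := by
  induction n with
  | zero => exact fun m _ => h m (Nat.zero_le m)
  | succ n ih =>
    rcases Nat.eq_zero_or_pos n with rfl | hn
    · exact h
    refine ih fun m hm => ?_
    rcases eq_or_lt_of_le hm with rfl | hlt
    · refine mem_range_of_sq_of_cube hR hinj _ ?_ ?_ <;>
        (rw [← pow_mul]; exact h _ (by omega))
    · exact h m hlt

theorem exists_mul_mem_of_minimalPrime {I p : Ideal R} (hI : I.IsRadical) (hp : p ∈ I.minimalPrimes) {x : R}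
    (hx : x ∈ p) : ∃ y ∉ p, x * y ∈ I := by
  by_contra hcon
  push_neg at hcon
  haveI := hp.1.1
  obtain ⟨q, hq, hIq, hdis⟩ := Ideal.exists_le_prime_disjoint I (Submonoid.powers x ⊔ p.primeCompl) (by
    refine Set.disjoint_left.2 fun z hzI hz => ?_
    obtain ⟨_, ⟨j, rfl⟩, y, hy, rfl⟩ := Submonoid.mem_sup.1 hz
    rcases Nat.eq_zero_or_pos j with rfl | hj
    · simp only [pow_zero, one_mul] at hzI
      exact hy (hp.1.2 hzI)
    refine hcon y hy (hI ⟨j, ?_⟩)
    obtain ⟨j', rfl⟩ := Nat.exists_eq_succ_of_ne_zero hj.ne'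
    rw [mul_pow, pow_succ y, mul_comm (y ^ j'), ← mul_assoc]
    exact I.mul_mem_right _ hzI)
  have hqp : q ≤ p := fun z hz => by
    by_contra hzp
    exact Set.disjoint_left.1 hdis hz (Submonoid.mem_sup_right hzp)
  exact Set.disjoint_left.1 hdis (hp.2 ⟨hq, hIq⟩ hqp hx) (Submonoid.mem_sup_left (Submonoid.mem_powers x))

/-- The reduced fibre over a minimal prime of a radical ideal receives the residue field. -/
theorem exists_fibre {S : Type u} [CommRing S] [Algebra R S] (𝔣 : Ideal S) (hrad : 𝔣.IsRadical) {p : Ideal R}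
    [p.IsPrime] (hp : p ∈ (𝔣.comap (algebraMap R S)).minimalPrimes) :
    ∃ (T : Type u) (_ : CommRing T) (_ : IsReduced T) (τ : S →+* T) (θ : FractionRing (R ⧸ p) →+* T),
      θ.comp (algebraMap R (FractionRing (R ⧸ p))) = τ.comp (algebraMap R S) ∧
      ∀ s, τ s = 0 → ∃ d ∉ p, algebraMap R S d * s ∈ 𝔣 := by
  haveI : IsReduced (S ⧸ 𝔣) := (Ideal.isRadical_iff_quotient_reduced 𝔣).1 hrad
  let ρ : R →+* S ⧸ 𝔣 := (Ideal.Quotient.mk 𝔣).comp (algebraMap R S)
  let W : Submonoid (S ⧸ 𝔣) := Submonoid.map (ρ : R →* S ⧸ 𝔣) p.primeCompl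
  haveI : IsReduced (Localization W) := isReduced_localizationPreserves W (Localization W) inferInstance
  let τ : S →+* Localization W := (algebraMap _ (Localization W)).comp (Ideal.Quotient.mk 𝔣)
  have hτunit : ∀ d ∉ p, IsUnit (τ (algebraMap R S d)) := fun d hd =>
    IsLocalization.map_units (Localization W) (⟨ρ d, ⟨d, hd, rfl⟩⟩ : W)
  have hτp : ∀ x ∈ p, τ (algebraMap R S x) = 0 := fun x hx => by
    obtain ⟨y, hy, hxy⟩ := exists_mul_mem_of_minimalPrime (Ideal.IsRadical.comap _ hrad) hp hx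
    refine (hτunit y hy).mul_left_eq_zero.1 ?_
    rw [← map_mul, ← map_mul]
    show algebraMap _ (Localization W) (Ideal.Quotient.mk 𝔣 _) = 0
    rw [Ideal.Quotient.eq_zero_iff_mem.2 (Ideal.mem_comap.1 hxy), map_zero]
  let κ : R ⧸ p →+* Localization W := Ideal.Quotient.lift p (τ.comp (algebraMap R S)) hτp
  have hκ : ∀ y : (nonZeroDivisors (R ⧸ p)), IsUnit (κ y) := by
    rintro ⟨y, hy⟩
    obtain ⟨y, rfl⟩ := Ideal.Quotient.mk_surjective y
    refine hτunit y fun hmem => nonZeroDivisors.ne_zero hy ?_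
    exact Ideal.Quotient.eq_zero_iff_mem.2 hmem
  refine ⟨Localization W, inferInstance, inferInstance, τ, IsLocalization.lift hκ, RingHom.ext fun r => ?_,
    fun s hs => ?_⟩
  · rw [RingHom.comp_apply, IsScalarTower.algebraMap_apply R (R ⧸ p) (FractionRing (R ⧸ p))]
    exact IsLocalization.lift_eq hκ _
  · obtain ⟨⟨_, d', hd', rfl⟩, hd0⟩ := (IsLocalization.map_eq_zero_iff W (Localization W) _).1 hs
    exact ⟨d', hd', Ideal.Quotient.eq_zero_iff_mem.1 (by rw [map_mul]; exact hd0)⟩

/-- The descent of a normalised splitting to a seminormal ring. -/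
theorem exists_split_descend (hR : HTop.IsSeminormalRing R) {K : Type u} [CommRing K] [IsReduced K] [Algebra R K]
    (hinj : Function.Injective (algebraMap R K)) {M : Fin n → Fin n → R[X]} {i₀ : Fin n}
    (hi₀ : IsUnit ((M i₀ i₀).coeff 0)) {F G : Fin n → K[X]} (h : Split M i₀ (algebraMap R K) F G)
    (hfield : ∀ (k : Type u) [Field k] (φ : R →+* k), ∃ F' G' : Fin n → k[X], Split M i₀ φ F' G') :
    ∃ F' G' : Fin n → R[X], ∀ i j, M i j = F' i * G' j := by
  classical
  let C₀ : Finset K := Finset.univ.biUnion fun i => (F i).coeffs ∪ (G i).coeffs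
  let S : Subalgebra R K := Algebra.adjoin R (C₀ : Set K)
  have hcoef : ∀ i d, (F i).coeff d ∈ S ∧ (G i).coeff d ∈ S := fun i d => by
    constructor
    · by_cases h0 : (F i).coeff d = 0
      · rw [h0]; exact zero_mem _
      exact Algebra.subset_adjoin (Finset.mem_biUnion.2
        ⟨i, Finset.mem_univ i, Finset.mem_union_left _ (coeff_mem_coeffs h0)⟩)
    · by_cases h0 : (G i).coeff d = 0
      · rw [h0]; exact zero_mem _
      exact Algebra.subset_adjoin (Finset.mem_biUnion.2
        ⟨i, Finset.mem_univ i, Finset.mem_union_right _ (coeff_mem_coeffs h0)⟩)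
  have hG0 : (G i₀).coeff 0 = algebraMap R K ((M i₀ i₀).coeff 0) := by
    rw [← coeff_map, h.eq, mul_coeff_zero, h.normal, one_mul]
  have hGint : ∀ i d, IsIntegral R ((G i).coeff d) := fun i d => by
    have := isIntegral_coeff_mul_coeff (F i₀) (G i) (M i₀ i) (h.eq i₀ i).symm 0 d
    rwa [h.normal, one_mul] at this
  have hFint : ∀ i d, IsIntegral R ((F i).coeff d) := fun i d => by
    have := (isIntegral_coeff_mul_coeff (F i) (G i₀) (M i i₀) (h.eq i i₀).symm d 0).mul
      (isIntegral_algebraMap (R := R) (A := K) (x := ((hi₀.unit⁻¹ : Rˣ) : R)))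
    rwa [hG0, mul_assoc, ← map_mul, IsUnit.mul_val_inv, map_one, mul_one] at this
  have hfg : (Subalgebra.toSubmodule S).FG := fg_adjoin_of_finite C₀.finite_toSet fun x hx => by
    obtain ⟨i, -, hx⟩ := Finset.mem_biUnion.1 hx
    rcases Finset.mem_union.1 hx with hx | hx <;> obtain ⟨d, -, rfl⟩ := mem_coeffs_iff.1 hx
    exacts [hFint i d, hGint i d]
  let 𝔣 : Ideal S :=
    { carrier := {s | ∀ t : S, ((s * t : S) : K) ∈ Set.range (algebraMap R K)}
      add_mem' := fun {a b} ha hb t => by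
        obtain ⟨x, hx⟩ := ha t
        obtain ⟨y, hy⟩ := hb t
        exact ⟨x + y, by rw [map_add, hx, hy, add_mul]; rfl⟩
      zero_mem' := fun t => ⟨0, by simp⟩
      smul_mem' := fun c {a} ha t => by
        have := ha (c * t)
        rwa [smul_eq_mul, mul_assoc, mul_left_comm] }
  have h𝔣 : ∀ s : S, s ∈ 𝔣 → (s : K) ∈ Set.range (algebraMap R K) := fun s hs => by simpa using hs 1
  have hrad : 𝔣.IsRadical := fun s ⟨j, hj⟩ t => by
    have hpow : ∀ m, j ≤ m → ((s * t : S) : K) ^ m ∈ Set.range (algebraMap R K) := fun m hm => by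
      rw [← SubmonoidClass.coe_pow, mul_pow, ← Nat.sub_add_cancel hm, pow_add s, mul_assoc, mul_left_comm,
        Nat.sub_add_cancel hm]
      exact hj _
    simpa using mem_range_of_forall_pow hR hinj _ j hpow 1 le_rfl
  suffices htop : 𝔣 = ⊤ by
    have hr : ∀ x ∈ S, x ∈ (algebraMap R K).range := fun x hx =>
      h𝔣 ⟨x, hx⟩ (htop ▸ Submodule.mem_top)
    have hlift : ∀ p : K[X], (∀ d, p.coeff d ∈ S) → ∃ q : R[X], q.map (algebraMap R K) = p := fun p hp =>
      (lifts_iff_coeff_lifts p).2 fun d => hr _ (hp d)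
    choose F' hF' using fun i => hlift (F i) fun d => (hcoef i d).1
    choose G' hG' using fun i => hlift (G i) fun d => (hcoef i d).2
    exact ⟨F', G', fun i j => Polynomial.map_injective _ hinj (by rw [Polynomial.map_mul, hF', hG', h.eq])⟩
  by_contra hne
  have hne' : 𝔣.comap (algebraMap R S) ≠ ⊤ := fun htop => hne (by
    rw [Ideal.eq_top_iff_one] at htop ⊢
    simpa using htop)
  obtain ⟨p, hp⟩ := Ideal.nonempty_minimalPrimes hne'
  haveI := hp.1.1
  haveI : IsReduced (S ⧸ 𝔣) := (Ideal.isRadical_iff_quotient_reduced 𝔣).1 hrad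
  obtain ⟨T', _, hT', τ, θ, hθ, hker⟩ := exists_fibre (S := S) 𝔣 hrad hp
  obtain ⟨F₁, G₁, h₁⟩ := hfield _ (algebraMap R (FractionRing (R ⧸ p)))
  have hliftS : ∀ q : K[X], (∀ d, q.coeff d ∈ S) → ∃ q' : S[X], q'.map (algebraMap S K) = q := fun q hq =>
    (lifts_iff_coeff_lifts q).2 fun d => ⟨⟨_, hq d⟩, rfl⟩
  choose F₂ hF₂ using fun i => hliftS (F i) fun d => (hcoef i d).1
  choose G₂ hG₂ using fun i => hliftS (G i) fun d => (hcoef i d).2
  have hSinj : Function.Injective (algebraMap S K) := Subtype.val_injective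
  have h₂ : Split M i₀ (algebraMap R S) F₂ G₂ := by
    refine ⟨fun i j => Polynomial.map_injective _ hSinj ?_, Polynomial.map_injective _ hSinj ?_, hSinj ?_⟩
    · rw [Polynomial.map_mul, hF₂, hG₂, Polynomial.map_map, ← IsScalarTower.algebraMap_eq, h.eq]
    · rw [Polynomial.map_sum, Polynomial.map_one, ← h.one]
      exact Finset.sum_congr rfl fun i _ => by rw [Polynomial.map_mul, hF₂, hG₂]
    · rw [← coeff_map, hF₂, h.normal, map_one]
  have h₁' := h₁.map θ
  rw [hθ] at h₁'
  obtain ⟨hFF, hGG⟩ := h₁'.unique (h₂.map τ)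
  have key : ∀ (q : S[X]) (q₁ : (FractionRing (R ⧸ p))[X]), q₁.map θ = q.map τ → ∀ d,
      ∃ e : R, e ∉ p ∧ ((algebraMap R S e * q.coeff d : S) : K) ∈ Set.range (algebraMap R K) := by
    intro q q₁ hq d
    obtain ⟨a, b, hb, hab⟩ := IsFractionRing.div_surjective (R ⧸ p) (q₁.coeff d)
    obtain ⟨a, rfl⟩ := Ideal.Quotient.mk_surjective a
    obtain ⟨b, rfl⟩ := Ideal.Quotient.mk_surjective b
    have hbp : b ∉ p := fun hmem => nonZeroDivisors.ne_zero hb (Ideal.Quotient.eq_zero_iff_mem.2 hmem)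
    have e : q₁.coeff d * algebraMap R _ b = algebraMap R _ a := by
      rw [← hab, IsScalarTower.algebraMap_apply R (R ⧸ p), IsScalarTower.algebraMap_apply R (R ⧸ p)]
      exact div_mul_cancel₀ _ (IsFractionRing.to_map_ne_zero_of_mem_nonZeroDivisors hb)
    have e' : τ (algebraMap R S b * q.coeff d - algebraMap R S a) = 0 := by
      have hq' := congrArg (fun z => z.coeff d) hq
      simp only [coeff_map] at hq'
      have := congrArg θ e
      rw [map_mul, hq', ← RingHom.comp_apply θ, hθ, ← RingHom.comp_apply θ, hθ] at this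
      simp only [RingHom.comp_apply] at this
      rw [map_sub, map_mul, mul_comm, this, sub_self]
    obtain ⟨d', hd', hmem⟩ := hker _ e'
    obtain ⟨r, hr⟩ := h𝔣 _ hmem
    refine ⟨d' * b, fun hmem => (Ideal.IsPrime.mem_or_mem inferInstance hmem).elim hd' hbp, r + d' * a, ?_⟩
    rw [map_add, hr, map_mul]
    push_cast
    ring
  let S' : Subalgebra R K :=
    { carrier := {x | ∃ e : R, e ∉ p ∧ algebraMap R K e * x ∈ Set.range (algebraMap R K)}
      mul_mem' := by
        rintro x y ⟨e, he, r, hr⟩ ⟨e', he', r', hr'⟩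
        refine ⟨e * e', fun hmem => (Ideal.IsPrime.mem_or_mem inferInstance hmem).elim he he', r * r', ?_⟩
        rw [map_mul, hr, hr', map_mul]; ring
      add_mem' := by
        rintro x y ⟨e, he, r, hr⟩ ⟨e', he', r', hr'⟩
        refine ⟨e * e', fun hmem => (Ideal.IsPrime.mem_or_mem inferInstance hmem).elim he he', r * e' + r' * e, ?_⟩
        rw [map_add, map_mul, map_mul, hr, hr', map_mul]; ring
      algebraMap_mem' := fun r => ⟨1, Ideal.one_notMem p, r, by rw [map_one, one_mul]⟩ }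
  have hSS' : S ≤ S' := Algebra.adjoin_le fun x hx => by
    obtain ⟨i, -, hx⟩ := Finset.mem_biUnion.1 hx
    rcases Finset.mem_union.1 hx with hx | hx <;> obtain ⟨d, -, rfl⟩ := mem_coeffs_iff.1 hx
    · obtain ⟨e, he, r, hr⟩ := key (F₂ i) (F₁ i) (congrFun hFF i) d
      refine ⟨e, he, r, hr.trans ?_⟩
      rw [← hF₂, coeff_map]; rfl
    · obtain ⟨e, he, r, hr⟩ := key (G₂ i) (G₁ i) (congrFun hGG i) d
      refine ⟨e, he, r, hr.trans ?_⟩
      rw [← hG₂, coeff_map]; rfl
  obtain ⟨T, hT⟩ := hfg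
  have hTS : ∀ t ∈ T, t ∈ S := fun t ht => (Subalgebra.mem_toSubmodule S).1 (hT ▸ Submodule.subset_span ht)
  choose e he hr using fun t : T => hSS' (hTS t t.2)
  obtain ⟨E, hE⟩ : ∃ E, E = ∏ t : T, e t := ⟨_, rfl⟩
  have hEp : E ∉ p := by
    rw [hE]
    exact fun hmem => by
      obtain ⟨t, -, ht⟩ := (Ideal.IsPrime.prod_mem_iff (p := p)).1 hmem
      exact he t ht
  refine hEp (hp.1.2 (show algebraMap R S E ∈ 𝔣 from fun t => ?_))
  have hle : Subalgebra.toSubmodule S ≤
      (Algebra.linearMap R K).range.comap (LinearMap.lsmul R K E) := by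
    rw [← hT, Submodule.span_le]
    intro t ht
    obtain ⟨r, hr'⟩ := hr ⟨t, ht⟩
    refine ⟨(∏ t' ∈ Finset.univ.erase (⟨t, ht⟩ : T), e t') * r, ?_⟩
    show algebraMap R K _ = E • t
    rw [map_mul, hr', Algebra.smul_def, hE, ← Finset.prod_erase_mul _ _ (Finset.mem_univ (⟨t, ht⟩ : T)), map_mul]
    ring
  obtain ⟨r, hr'⟩ := hle ((Subalgebra.mem_toSubmodule S).2 t.2)
  exact ⟨r, hr'.trans (Algebra.smul_def E (t : K))⟩

end Descent

/-- Traverso–Swan: an invertible module over `R[X]` is free for `R` seminormal and local. -/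
theorem free_of_invertible_polynomial {R : Type u} [CommRing R] [IsLocalRing R] [IsReduced R]
    (hR : HTop.IsSeminormalRing R) (P : Type u) [AddCommGroup P] [Module R[X] P] [Module.Invertible R[X] P] :
    Module.Free R[X] P := by
  classical
  obtain ⟨n, g, m, h1⟩ := exists_coordinates (R := R) P
  obtain ⟨i₀, -, hi₀⟩ : ∃ i ∈ (Finset.univ : Finset (Fin n)), IsUnit ((g i (m i)).coeff 0) := by
    refine IsLocalRing.exists_of_isUnit_sum ?_
    rw [← finset_sum_coeff, h1, coeff_one_zero]
    exact isUnit_one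
  choose F G h using fun p : PrimeSpectrum R =>
    exists_split_field h1 hi₀ (algebraMap R (FractionRing (R ⧸ p.asIdeal)))
  have hne : ∀ p, (F p i₀) ≠ 0 ∧ (G p i₀) ≠ 0 := fun p => by
    refine ⟨fun h0 => one_ne_zero ((h p).normal.symm.trans (by rw [h0, coeff_zero])), fun h0 => ?_⟩
    have := congrArg (fun q => q.coeff 0) ((h p).eq i₀ i₀)
    simp only [coeff_map, h0, mul_zero, coeff_zero] at this
    exact (hi₀.map _).ne_zero this
  obtain ⟨N, hN⟩ : ∃ N, ∀ i j, (g i (m j)).natDegree ≤ N :=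
    ⟨Finset.univ.sup fun ij : Fin n × Fin n => (g ij.1 (m ij.2)).natDegree,
      fun i j => Finset.le_sup (f := fun ij : Fin n × Fin n => (g ij.1 (m ij.2)).natDegree) (Finset.mem_univ (i, j))⟩
  have hdeg : ∀ p i, (F p i).natDegree ≤ N ∧ (G p i).natDegree ≤ N := fun p i => by
    constructor
    · by_cases h0 : F p i = 0
      · simp [h0]
      have := natDegree_mul h0 (hne p).2
      rw [← (h p).eq] at this
      linarith [natDegree_map_le (f := algebraMap R (FractionRing (R ⧸ p.asIdeal))) (p := g i (m i₀)), hN i i₀]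
    · by_cases h0 : G p i = 0
      · simp [h0]
      have := natDegree_mul (hne p).1 h0
      rw [← (h p).eq] at this
      linarith [natDegree_map_le (f := algebraMap R (FractionRing (R ⧸ p.asIdeal))) (p := g i₀ (m i)), hN i₀ i]
  choose FK hFK using fun i => exists_pi_polynomial (fun p : PrimeSpectrum R => FractionRing (R ⧸ p.asIdeal))
    (fun p => F p i) N (fun p => (hdeg p i).1)
  choose GK hGK using fun i => exists_pi_polynomial (fun p : PrimeSpectrum R => FractionRing (R ⧸ p.asIdeal))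
    (fun p => G p i) N (fun p => (hdeg p i).2)
  let K := ∀ p : PrimeSpectrum R, FractionRing (R ⧸ p.asIdeal)
  have hK : Split (fun i j => g i (m j)) i₀ (algebraMap R K) FK GK := by
    refine ⟨fun i j => pi_polynomial_ext fun p => ?_, pi_polynomial_ext fun p => ?_, funext fun p => ?_⟩
    · rw [Polynomial.map_map, Polynomial.map_mul, hFK, hGK]
      exact (h p).eq i j
    · rw [Polynomial.map_sum, Polynomial.map_one, ← (h p).one]
      exact Finset.sum_congr rfl fun i _ => by rw [Polynomial.map_mul, hFK, hGK]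
    · show Pi.evalRingHom _ p ((FK i₀).coeff 0) = 1
      rw [← coeff_map, hFK, (h p).normal]
  have hinj : Function.Injective (algebraMap R K) := by
    refine (injective_iff_map_eq_zero _).2 fun r hr => IsReduced.eq_zero r ?_
    rw [← mem_nilradical, nilradical_eq_sInf, Submodule.mem_sInf]
    intro q hq
    have h0 := congrFun hr ⟨q, hq⟩
    rw [Pi.algebraMap_apply, IsScalarTower.algebraMap_apply R (R ⧸ q) (FractionRing (R ⧸ q))] at h0
    exact Ideal.Quotient.eq_zero_iff_mem.1 (IsFractionRing.injective (R ⧸ q) (FractionRing (R ⧸ q))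
      (h0.trans (map_zero _).symm))
  obtain ⟨F', G', hM⟩ := exists_split_descend hR hinj hi₀ hK fun k _ φ => exists_split_field h1 hi₀ φ
  exact free_of_split h1 hM

end Groth.Agent.SeminormalPic
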